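import Mathlib.AlgebraicGeometry.Morphisms.Finite
import Mathlib.AlgebraicGeometry.ResidueField
import Mathlib.FieldTheory.IsAlgClosed.AlgebraicClosure
import Mathlib.LinearAlgebra.Dimension.Constructions
import Mathlib.FieldTheory.Minpoly.IsConjRoot
import Mathlib.FieldTheory.LinearDisjoint

/-!
# A bound for the geometric fibres of a finite morphism
-/

set_option autoImplicit false

universe u

open CategoryTheory AlgebraicGeometry

noncomputable section

namespace Groth.Agent.DualNorm

/-- The geometric fibres inside a set have at most `n` points. -/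
def Bound {P W : Scheme.{u}} (q : P ⟶ W) (S : Set P) (n : ℕ) : Prop :=
  ∀ (K : Type u) [Field K] [IsAlgClosed K] (m : ℕ) (z : Spec (CommRingCat.of K) ⟶ W)
    (pts : Fin m → (Spec (CommRingCat.of K) ⟶ P)), Function.Injective pts →
    (∀ i, pts i ≫ q = z) → (∀ i x, pts i x ∈ S) → m ≤ n

theorem card_le_of_span {R A K : Type*} [CommRing R] [CommRing A] [Algebra R A] [Field K] (ρ : R →+* K)
    {n : ℕ} (g : Fin n → A) (hg : Submodule.span R (Set.range g) = ⊤) {m : ℕ} (φ : Fin m → (A →+* K))
    (hinj : Function.Injective φ) (hφ : ∀ i r, φ i (algebraMap R A r) = ρ r) : m ≤ n := by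
  have hli : LinearIndependent K (fun i => fun j => φ i (g j)) := by
    rw [Fintype.linearIndependent_iff]
    intro c hc
    have h0 : ∀ a : A, ∑ i, c i * φ i a = 0 := by
      intro a
      have ha : a ∈ Submodule.span R (Set.range g) := hg ▸ Submodule.mem_top
      obtain ⟨r, rfl⟩ := (Submodule.mem_span_range_iff_exists_fun R).1 ha
      simp only [map_sum, Algebra.smul_def, map_mul, hφ, Finset.mul_sum]
      rw [Finset.sum_comm]
      refine Finset.sum_eq_zero fun j _ => ?_
      have hj := congrFun hc j
      simp only [Finset.sum_apply, Pi.smul_apply, smul_eq_mul, Pi.zero_apply] at hj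
      rw [show ∑ x, c x * (ρ (r j) * φ x (g j)) = ρ (r j) * ∑ x, c x * φ x (g j) from by
        rw [Finset.mul_sum]
        exact Finset.sum_congr rfl fun i _ => mul_left_comm _ _ _, hj, mul_zero]
    have hD := (linearIndependent_monoidHom A K).comp (fun i => ((φ i : A →+* K) : A →* K))
      (fun i i' h => hinj (RingHom.ext fun a => DFunLike.congr_fun h a))
    exact Fintype.linearIndependent_iff.1 hD c (funext fun a => by
      simpa [Finset.sum_apply] using h0 a)
  have h := hli.fintype_card_le_finrank
  rwa [Fintype.card_fin, Module.finrank_fin_fun] at h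

theorem exists_bound {P W : Scheme.{u}} (q : P ⟶ W) [IsFinite q] [IsAffine W] :
    ∃ n, Bound q Set.univ n := by
  haveI : IsAffine P := isAffine_of_isAffineHom q
  letI : Algebra Γ(W, ⊤) Γ(P, ⊤) := q.appTop.hom.toAlgebra
  haveI : Module.Finite Γ(W, ⊤) Γ(P, ⊤) := q.finite_appTop
  obtain ⟨n, g, hg⟩ := Module.Finite.exists_fin (R := Γ(W, ⊤)) (M := Γ(P, ⊤))
  refine ⟨n, fun K _ _ m z pts hinj hz _ => ?_⟩
  refine card_le_of_span ((Scheme.ΓSpecIso (CommRingCat.of K)).hom.hom.comp z.appTop.hom) g hg
    (fun i => (Scheme.ΓSpecIso (CommRingCat.of K)).hom.hom.comp (pts i).appTop.hom) (fun i i' h => hinj ?_)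
    (fun i r => ?_)
  · refine ext_of_isAffine (CommRingCat.hom_ext (RingHom.ext fun a => ?_))
    exact (ConcreteCategory.bijective_of_isIso (Scheme.ΓSpecIso (CommRingCat.of K)).hom).1
      (DFunLike.congr_fun h a)
  · show (Scheme.ΓSpecIso (CommRingCat.of K)).hom ((pts i).appTop (q.appTop r)) =
      (Scheme.ΓSpecIso (CommRingCat.of K)).hom (z.appTop r)
    rw [← hz i, Scheme.Hom.comp_appTop]
    rfl

theorem eq_empty_of_bound {P W : Scheme.{u}} (q : P ⟶ W) (S : Set P) (h : Bound q S 0) (p : P) : p ∉ S := by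
  intro hp
  let K := AlgebraicClosure (P.residueField p)
  let pt : Spec (CommRingCat.of K) ⟶ P :=
    Spec.map (CommRingCat.ofHom (algebraMap (P.residueField p) K)) ≫ P.fromSpecResidueField p
  have hle := h K 1 (pt ≫ q) (fun _ => pt) (fun a b _ => Subsingleton.elim a b) (fun _ => rfl)
    (fun _ x => by
      have hx : pt x ∈ Set.range (P.fromSpecResidueField p) := ⟨_, rfl⟩
      rw [Scheme.range_fromSpecResidueField, Set.mem_singleton_iff] at hx
      rw [hx]
      exact hp)
  omega

end Groth.Agent.DualNorm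

end
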