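import Groth.Agent.Adeq2Lib.AffineVanish
import Groth.Agent.FppfPic.Gm
import Groth.Agent.HomShH1.Core

/-!
# Extension by zero of sections along clopen immersions on the big fppf site
-/

set_option autoImplicit false

universe u

open CategoryTheory CategoryTheory.Limits AlgebraicGeometry Opposite TopologicalSpace

noncomputable section

namespace Groth.Agent.DualNorm

open Groth.Agent.Adeq2Lib Groth.Agent.Adeq2Lib.AffVan Groth.Agent.FppfPic Groth.Agent.HomShH1

variable {S : Scheme.{u}} {Z P : Over S}

/-- Clopen immersions. -/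
class IsClopenImm (j : Z ⟶ P) : Prop where
  isOpen : IsOpenImmersion j.left
  isClosed : IsClosed (Set.range j.left)

attribute [instance] IsClopenImm.isOpen

variable (j : Z ⟶ P) [IsClopenImm j]

/-- The open complement of a clopen immersion. -/
def cmOpen : P.left.Opens := ⟨(Set.range j.left)ᶜ, (IsClopenImm.isClosed (j := j)).isOpen_compl⟩

/-- The complement of a clopen immersion. -/
abbrev Cm : Over S := Over.mk ((cmOpen j).ι ≫ P.hom)

/-- The inclusion of the complement. -/
abbrev cm : Cm j ⟶ P := Over.homMk (cmOpen j).ι rfl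

theorem mem_range_cm {p : P.left} : p ∈ Set.range (cm j).left ↔ p ∉ Set.range j.left := by
  show p ∈ Set.range (cmOpen j).ι ↔ _
  rw [Scheme.Opens.range_ι]
  rfl

theorem generate_mem_of_open_cover {I : Type} {Y : Over S} (W : I → Over S) (g : ∀ i, W i ⟶ Y)
    (hg : ∀ i, IsOpenImmersion (g i).left) (hs : ∀ y : Y.left, ∃ i, y ∈ Set.range (g i).left) :
    Sieve.generate (Presieve.ofArrows (fun i => (W i).left) fun i => (g i).left) ∈
      Scheme.fppfPrecoverage.toGrothendieck Y.left := by
  refine Precoverage.generate_mem_toGrothendieck (J := Scheme.precoverage (Pfppf : MorphismProperty Scheme.{u})) ?_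
  rw [Scheme.ofArrows_mem_precoverage_iff]
  exact ⟨fun y => hs y, fun i => by haveI := hg i; exact ⟨inferInstance, inferInstance⟩⟩

/-- The two pieces. -/
abbrev piece : Bool → Over S := fun i => Bool.rec (motive := fun _ => Over S) (Cm j) Z i

/-- The maps of the two pieces. -/
abbrev pieceMap : ∀ i, piece j i ⟶ P :=
  fun i => Bool.rec (motive := fun i => piece j i ⟶ P) (cm j) j i

theorem piece_cover :
    Sieve.generate (Presieve.ofArrows (fun i => (piece j i).left) fun i => (pieceMap j i).left) ∈
      Scheme.fppfPrecoverage.toGrothendieck P.left := by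
  refine generate_mem_of_open_cover (piece j) (pieceMap j) (fun i => ?_) fun y => ?_
  · cases i
    · exact inferInstanceAs (IsOpenImmersion (cmOpen j).ι)
    · exact (inferInstance : IsOpenImmersion j.left)
  · by_cases h : y ∈ Set.range j.left
    · exact ⟨true, h⟩
    · exact ⟨false, (mem_range_cm j).2 h⟩

variable (F : AbT S)

theorem clopen_ext {x y : F.obj.obj (op P)} (h₁ : rA F j x = rA F j y)
    (h₂ : rA F (cm j) x = rA F (cm j) y) : x = y :=
  eq_of_cover F (piece j) (pieceMap j) (piece_cover j) x y fun i => by cases i <;> assumption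

theorem exists_clopen_ext (a : F.obj.obj (op Z)) :
    ∃ b : F.obj.obj (op P), rA F j b = a ∧ rA F (cm j) b = 0 := by
  haveI hmono : Mono j := (Over.forget S).mono_of_mono_map (inferInstanceAs (Mono j.left))
  haveI hmono' : Mono (cm j) :=
    (Over.forget S).mono_of_mono_map (inferInstanceAs (Mono (cmOpen j).ι))
  obtain ⟨b, hb⟩ := glueA F (piece j) (pieceMap j) (piece_cover j)
    (fun i => Bool.rec (motive := fun i => F.obj.obj (op (piece j i))) 0 a i) fun i k W p q hpq => by
      have hempty : ∀ (p' : W ⟶ Cm j) (q' : W ⟶ Z), p' ≫ cm j = q' ≫ j → IsEmpty W.left := fun p' q' h =>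
        ⟨fun w => (mem_range_cm j).1 ⟨p'.left w, rfl⟩ ⟨q'.left w, by
          have h' := congrArg (fun φ => φ.left w) h
          exact h'.symm⟩⟩
      cases i <;> cases k
      · rw [show p = q from (cancel_mono (cm j)).1 hpq]
      · haveI := hempty p q hpq
        exact eq_of_isEmpty F _ _
      · haveI := hempty q p hpq.symm
        exact eq_of_isEmpty F _ _
      · rw [show p = q from (cancel_mono j).1 hpq]
  exact ⟨b, hb true, hb false⟩

/-- Extension by zero. -/
def extS (a : F.obj.obj (op Z)) : F.obj.obj (op P) := (exists_clopen_ext j F a).choose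

theorem rA_extS (a : F.obj.obj (op Z)) : rA F j (extS j F a) = a :=
  (exists_clopen_ext j F a).choose_spec.1

theorem rA_cm_extS (a : F.obj.obj (op Z)) : rA F (cm j) (extS j F a) = 0 :=
  (exists_clopen_ext j F a).choose_spec.2

theorem eq_extS {b : F.obj.obj (op P)} {a : F.obj.obj (op Z)} (h₁ : rA F j b = a)
    (h₂ : rA F (cm j) b = 0) : b = extS j F a :=
  clopen_ext j F (h₁.trans (rA_extS j F a).symm) (h₂.trans (rA_cm_extS j F a).symm)

theorem extS_add (a a' : F.obj.obj (op Z)) : extS j F (a + a') = extS j F a + extS j F a' :=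
  (eq_extS j F (by rw [map_add, rA_extS, rA_extS]) (by rw [map_add, rA_cm_extS, rA_cm_extS, add_zero])).symm

theorem extS_zero : extS j F (0 : F.obj.obj (op Z)) = 0 :=
  (eq_extS j F (map_zero _) (map_zero _)).symm

theorem rA_extS_of_disjoint {W : Over S} (g : W ⟶ P) (h : ∀ w, g.left w ∉ Set.range j.left)
    (a : F.obj.obj (op Z)) : rA F g (extS j F a) = 0 := by
  have hr : Set.range g.left ⊆ Set.range (cm j).left := by
    rintro _ ⟨w, rfl⟩
    exact (mem_range_cm j).2 (h w)
  haveI : IsOpenImmersion (cm j).left := inferInstanceAs (IsOpenImmersion (cmOpen j).ι)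
  let l : W ⟶ Cm j := Over.homMk (IsOpenImmersion.lift (cm j).left g.left hr) (by
    show _ ≫ (cm j).left ≫ P.hom = _
    rw [IsOpenImmersion.lift_fac_assoc, Over.w g])
  have hl : l ≫ cm j = g := Over.OverMorphism.ext (IsOpenImmersion.lift_fac _ _ _)
  rw [← hl, ← rA_comp, rA_cm_extS, map_zero]

theorem rA_extS_square {Z' P' : Over S} (j' : Z' ⟶ P') [IsClopenImm j'] (g : Z' ⟶ Z) (g' : P' ⟶ P)
    (hsq : j' ≫ g' = g ≫ j) (hpre : ∀ p, g'.left p ∈ Set.range j.left → p ∈ Set.range j'.left)
    (a : F.obj.obj (op Z)) : rA F g' (extS j F a) = extS j' F (rA F g a) := by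
  refine eq_extS j' F ?_ ?_
  · rw [rA_comp, hsq, ← rA_comp, rA_extS]
  · rw [rA_comp]
    refine rA_extS_of_disjoint j F _ (fun w hw => ?_) a
    exact (mem_range_cm j').1 ⟨w, rfl⟩ (hpre _ hw)

theorem evAt_extS {G : AbT S} {T : Over S} (χ : (HomSh.homSh (QuotSh.J Scheme.fppfPrecoverage S) F G).obj.obj (op T))
    (d : P ⟶ T) (a : F.obj.obj (op Z)) :
    evAt χ d (extS j F a) = extS j G (evAt χ (j ≫ d) a) := by
  refine eq_extS j G ?_ ?_
  · refine (evAt_comp χ d j (extS j F a)).symm.trans ?_
    exact congrArg (evAt χ (j ≫ d)) (rA_extS j F a)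
  · refine (evAt_comp χ d (cm j) (extS j F a)).symm.trans ?_
    exact (congrArg (evAt χ (cm j ≫ d)) (rA_cm_extS j F a)).trans (map_zero _)

end Groth.Agent.DualNorm

end
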