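import Groth.Agent.DualNorm.Norm
import Groth.Agent.DualNorm.Bound

/-!
# The norm map on dual sheaves is an isomorphism
-/

set_option autoImplicit false

universe u

open CategoryTheory CategoryTheory.Limits AlgebraicGeometry Opposite TopologicalSpace

noncomputable section

namespace Groth.Agent.DualNorm

open Groth.Agent.Adeq2Lib Groth.Agent.Adeq2Lib.AffVan Groth.Agent.FppfPic Groth.Agent.HomShH1
  Groth.Agent.NormMap

variable {X X' : Scheme.{u}} (f : X' ⟶ X) (F : AbT X')

/-- The direct image. -/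
abbrev pushF : AbT X := (BigSite.pushBig Scheme.fppfPrecoverage f AddCommGrpCat.{u + 1}).obj F

/-- Characters of the direct image. -/
abbrev DualX (T : Over X) : Type (u + 1) :=
  (HomSh.homSh (QuotSh.J Scheme.fppfPrecoverage X) (pushF f F) (gm X)).obj.obj (op T)

/-- Characters. -/
abbrev DualX' (T' : Over X') : Type (u + 1) :=
  (HomSh.homSh (QuotSh.J Scheme.fppfPrecoverage X') F (gm X')).obj.obj (op T')

/-- The norm map on characters over `T`. -/
abbrev th (N : CGrpSh3.pushGm Scheme.fppfPrecoverage f ⟶ CGrpSh2.Gm Scheme.fppfPrecoverage X) (T : Over X) :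
    DualX' F (Pb f T) →+ DualX f F T :=
  ((CGrpSh3.dualNormMap Scheme.fppfPrecoverage f N F).hom.app (op T)).hom

theorem evAt_th (N : CGrpSh3.pushGm Scheme.fppfPrecoverage f ⟶ CGrpSh2.Gm Scheme.fppfPrecoverage X)
    (T W : Over X) (χ : DualX' F (Pb f T)) (d : W ⟶ T) (b : F.obj.obj (op (Pb f W))) :
    evAt (th f F N T χ) d b = nA f N W (evAt χ (pb f d) b) := rfl

theorem gmSec_mul {S : Scheme.{u}} {T : Over S} (v w : Γ(T.left, ⊤)ˣ) :
    (gmSec (v * w) : (gm S).obj.obj (op T)) = gmSec v + gmSec w :=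
  gmVal_injective (by rw [gmVal_add, gmVal_gmSec, gmVal_gmSec, gmVal_gmSec])

/-- A function on an object over `X'` as a function on it as an object over `X`. -/
def toX' (Z : Over X') : (gm X).obj.obj (op (Mp f Z)) →+ (gm X').obj.obj (op Z) :=
  AddMonoidHom.mk' (fun y => gmSec (T := Z) (gmVal (T := Mp f Z) y))
    fun y y' => (congrArg (gmSec (S := X') (T := Z)) (gmVal_add (T := Mp f Z) y y')).trans
      (gmSec_mul (S := X') (T := Z) (gmVal (T := Mp f Z) y) (gmVal (T := Mp f Z) y'))

theorem gmVal_toX' (Z : Over X') (y : (gm X).obj.obj (op (Mp f Z))) :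
    (gmVal (toX' f Z y)).1 = (gmVal y).1 :=
  congrArg Units.val (gmVal_gmSec (S := X') (T := Z) (gmVal (T := Mp f Z) y))

theorem toX'_map {Z Z' : Over X'} (g : Z' ⟶ Z) (y : (gm X).obj.obj (op (Mp f Z))) :
    toX' f Z' (rA (gm X) (mpMap f g) y) = rA (gm X') g (toX' f Z y) :=
  gmVal_injective (Units.ext (((gmVal_toX' f Z' _).trans (gmVal_map (mpMap f g) y)).trans
    ((congrArg g.left.appTop (gmVal_toX' f Z y)).symm.trans (gmVal_map g _).symm)))

/-- An affine open cover. -/
theorem open_cover_mem (W : Over X) :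
    Sieve.generate (Presieve.ofArrows (fun U : W.left.affineOpens => (restr W U.1).left)
      fun U => (incl W U.1).left) ∈ Scheme.fppfPrecoverage.toGrothendieck W.left := by
  refine Precoverage.generate_mem_toGrothendieck (J := Scheme.precoverage (Pfppf : MorphismProperty Scheme.{u})) ?_
  rw [Scheme.ofArrows_mem_precoverage_iff]
  refine ⟨fun y => ?_, fun U => ⟨inferInstanceAs (Flat U.1.ι), inferInstanceAs (LocallyOfFinitePresentation U.1.ι)⟩⟩
  obtain ⟨(U : W.left.Opens), hU, hy, -⟩ := Opens.isBasis_iff_nbhd.mp W.left.isBasis_affineOpens (Opens.mem_top y)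
  refine ⟨⟨U, hU⟩, ⟨y, hy⟩, rfl⟩

variable [IsFinite f] [Etale f] {T : Over X} (ψ : DualX f F T)

theorem evAt_eq_zero_of_bound
    (hψ : ∀ (Z : Over X') (v : Z ⟶ Pb f T) (a : F.obj.obj (op Z)),
      evAt ψ (dn f v) (extS (sec f Z) F a) = 0) :
    ∀ (n : ℕ) (W : Over X) (d : W ⟶ T), IsAffine W.left → ∀ O : (Pb f W).left.Opens,
      IsClosed (O : Set (Pb f W).left) → Bound (pullback.fst W.hom f) (O : Set (Pb f W).left) n →
      ∀ b : F.obj.obj (op (Pb f W)),
        (∀ (Q : Over X') (g : Q ⟶ Pb f W), (∀ x, g.left x ∉ O) → rA F g b = 0) → evAt ψ d b = 0 := by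
  intro n
  induction n with
  | zero =>
    intro W d _ O _ hn b hb
    have h := hb _ (𝟙 _) fun x => eq_empty_of_bound _ _ hn x
    rw [rA_id] at h
    rw [h]
    exact map_zero _
  | succ n ih =>
    intro W d hW O hO hn b hb
    haveI := hW
    haveI : IsAffine (Pb f W).left := isAffine_of_isAffineHom (pullback.fst W.hom f)
    let Z : Over X' := Over.mk (O.ι ≫ (Pb f W).hom)
    let i : Z ⟶ Pb f W := Over.homMk O.ι rfl
    let W₀ : W.left.Opens := ⟨(pullback.fst W.hom f '' (O : Set (Pb f W).left))ᶜ,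
      ((pullback.fst W.hom f).isClosedMap _ hO).isOpen_compl⟩
    let pc : Bool → Over X := fun k => Bool.rec (motive := fun _ => Over X) (restr W W₀) (Mp f Z) k
    let pm' : ∀ k, pc k ⟶ W :=
      fun k => Bool.rec (motive := fun k => pc k ⟶ W) (incl W W₀) (dn f i) k
    have hcov : Sieve.generate (Presieve.ofArrows (fun k => (pc k).left) fun k => (pm' k).left) ∈
        Scheme.fppfPrecoverage.toGrothendieck W.left := by
      refine Precoverage.generate_mem_toGrothendieck
        (J := Scheme.precoverage (Pfppf : MorphismProperty Scheme.{u})) ?_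
      rw [Scheme.ofArrows_mem_precoverage_iff]
      refine ⟨fun y => ?_, fun k => ?_⟩
      · by_cases hy : y ∈ pullback.fst W.hom f '' (O : Set (Pb f W).left)
        · obtain ⟨x, hx, rfl⟩ := hy
          exact ⟨true, ⟨x, hx⟩, rfl⟩
        · exact ⟨false, ⟨y, hy⟩, rfl⟩
      · cases k
        · exact ⟨inferInstanceAs (Flat W₀.ι), inferInstanceAs (LocallyOfFinitePresentation W₀.ι)⟩
        · exact ⟨inferInstanceAs (Flat (O.ι ≫ pullback.fst W.hom f)),
            inferInstanceAs (LocallyOfFinitePresentation (O.ι ≫ pullback.fst W.hom f))⟩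
    refine eq_of_cover (gm X) pc pm' hcov _ _ fun k => ?_
    refine ((evAt_comp ψ d (pm' k) b).symm.trans ?_).trans (map_zero _).symm
    cases k
    · show evAt ψ (incl W W₀ ≫ d) (rA F (pb f (incl W W₀)) b) = 0
      rw [hb _ (pb f (incl W W₀)) fun x hx => ?_]
      · exact map_zero _
      · have hp : (incl W W₀).left (pullback.fst _ f x) ∈ W₀ := (pullback.fst (restr W W₀).hom f x).2
        refine hp ⟨(pb f (incl W W₀)).left x, hx, ?_⟩
        exact congrArg (fun φ => φ x) (pb_fst f (incl W W₀))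
    · show evAt ψ (dn f i ≫ d) (rA F (pb f (dn f i)) b) = 0
      obtain ⟨c, hc⟩ : ∃ c, c = rA F (pb f (dn f i)) b - extS (sec f Z) F (rA F i b) := ⟨_, rfl⟩
      have hs : rA F (sec f Z) c = 0 := by
        rw [hc, map_sub, rA_extS, rA_comp, sec_dn, sub_self]
      have e : rA F (pb f (dn f i)) b = extS (sec f Z) F (rA F i b) + c := by
        rw [hc, add_sub_cancel]
      refine (congrArg (evAt ψ (dn f i ≫ d)) e).trans ((map_add (evAt ψ (dn f i ≫ d)) _ _).trans ?_)
      have hdn : dn f i ≫ d = dn f (i ≫ pb f d) := Over.OverMorphism.ext (by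
        show (i.left ≫ pullback.fst W.hom f) ≫ d.left = (i ≫ pb f d).left ≫ pullback.fst T.hom f
        rw [Over.comp_left, Category.assoc, Category.assoc, pb_fst])
      refine (congrArg₂ (· + ·) ((evAt_congr ψ hdn _).trans (hψ Z (i ≫ pb f d) (rA F i b))) ?_).trans
        (add_zero 0)
      haveI : IsClosedImmersion O.ι := IsClosedImmersion.of_isPreimmersion O.ι (by
        rw [Scheme.Opens.range_ι]; exact hO)
      have hAff : IsAffine (Mp f Z).left := isAffine_of_isAffineHom O.ι
      let C : (Pb f (Mp f Z)).left.Opens := (pb f (dn f i)).left ⁻¹ᵁ O ⊓ cmOpen (sec f Z)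
      have hCc : IsClosed (C : Set (Pb f (Mp f Z)).left) :=
        (hO.preimage (pb f (dn f i)).left.continuous).inter
          (sec f Z).left.isOpenEmbedding.isOpen_range.isClosed_compl
      have hCmem : ∀ x, x ∈ C ↔ (pb f (dn f i)).left x ∈ O ∧ x ∉ Set.range (sec f Z).left :=
        fun x => Iff.rfl
      refine ih (Mp f Z) (dn f i ≫ d) hAff C hCc ?_ c ?_
      · intro K _ _ m z pts hinj hz hS
        let ext : Fin (m + 1) → (Spec (CommRingCat.of K) ⟶ (Pb f W).left) :=
          Fin.cons (z ≫ i.left) fun j => pts j ≫ (pb f (dn f i)).left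
        have hsec : z ≫ (sec f Z).left ≫ (pb f (dn f i)).left = z ≫ i.left :=
          congrArg (z ≫ ·) (congrArg CommaMorphism.left (sec_dn f i))
        have hinj2 : ∀ a a' : Spec (CommRingCat.of K) ⟶ (Pb f (Mp f Z)).left,
            a ≫ pullback.fst (Mp f Z).hom f = z → a' ≫ pullback.fst (Mp f Z).hom f = z →
            a ≫ (pb f (dn f i)).left = a' ≫ (pb f (dn f i)).left → a = a' := by
          intro a a' ha ha' h
          refine pullback.hom_ext (ha.trans ha'.symm) ?_
          have h' := congrArg (· ≫ (Pb f W).hom) h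
          simp only [Category.assoc, Over.w] at h'
          exact h'
        have hzsec : (z ≫ (sec f Z).left) ≫ pullback.fst (Mp f Z).hom f = z := by
          rw [Category.assoc, sec_fst]
          exact Category.comp_id z
        have hne : ∀ j, pts j ≫ (pb f (dn f i)).left ≠ z ≫ i.left := by
          intro j h
          have h' := hinj2 (pts j) (z ≫ (sec f Z).left) (hz j) hzsec
            (h.trans (hsec.symm.trans (Category.assoc _ _ _).symm))
          refine ((hCmem _).1 (hS j (Inhabited.default : PrimeSpectrum K))).2 ?_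
          rw [h']
          exact ⟨_, rfl⟩
        have hle := hn K (m + 1) (z ≫ (dn f i).left) ext ?_ ?_ ?_
        · omega
        · refine Fin.cons_injective_iff.2 ⟨?_, fun j j' h => hinj (hinj2 _ _ (hz j) (hz j') h)⟩
          rintro ⟨j, hj⟩
          exact hne j hj
        · intro j
          refine Fin.cases ?_ (fun j => ?_) j
          · exact Category.assoc _ _ _
          · show (pts j ≫ (pb f (dn f i)).left) ≫ pullback.fst W.hom f = z ≫ (dn f i).left
            rw [Category.assoc, pb_fst, ← Category.assoc, hz]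
        · intro j x
          refine Fin.cases ?_ (fun j => ?_) j
          · exact (z x).2
          · exact ((hCmem _).1 (hS j x)).1
      · intro Q g hg
        let QA : Q.left.Opens := g.left ⁻¹ᵁ (sec f Z).left.opensRange
        let jA : Over.mk (QA.ι ≫ Q.hom) ⟶ Q := Over.homMk QA.ι rfl
        haveI : IsClopenImm jA := ⟨inferInstanceAs (IsOpenImmersion QA.ι), by
          rw [show Set.range jA.left = g.left ⁻¹' Set.range (sec f Z).left from QA.range_ι]
          exact (IsClopenImm.isClosed (j := sec f Z)).preimage g.left.continuous⟩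
        refine clopen_ext jA F ?_ ?_
        · rw [map_zero, rA_comp]
          have hr : Set.range (jA ≫ g).left ⊆ Set.range (sec f Z).left := by
            rintro _ ⟨x, rfl⟩
            exact x.2
          let l : Over.mk (QA.ι ≫ Q.hom) ⟶ Z :=
            Over.homMk (IsOpenImmersion.lift (sec f Z).left (jA ≫ g).left hr) (by
              refine Eq.trans ?_ (Over.w (jA ≫ g))
              rw [← Over.w (sec f Z), IsOpenImmersion.lift_fac_assoc])
          have hl : l ≫ sec f Z = jA ≫ g := Over.OverMorphism.ext (IsOpenImmersion.lift_fac _ _ _)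
          rw [← hl, ← rA_comp, hs, map_zero]
        · rw [map_zero, rA_comp, hc, map_sub, rA_comp]
          have havoid : ∀ x, (cm jA ≫ g).left x ∉ Set.range (sec f Z).left := fun x hx =>
            (mem_range_cm jA).1 ⟨x, rfl⟩ (by
              show _ ∈ Set.range QA.ι
              rw [Scheme.Opens.range_ι]
              exact hx)
          rw [rA_extS_of_disjoint (sec f Z) F _ havoid, hb _ _ fun x hx => ?_, sub_zero]
          exact hg ((cm jA).left x) ((hCmem _).2 ⟨hx, havoid x⟩)

theorem eq_zero_of_kills (hψ : ∀ (Z : Over X') (v : Z ⟶ Pb f T) (a : F.obj.obj (op Z)),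
      evAt ψ (dn f v) (extS (sec f Z) F a) = 0) : ψ = 0 := by
  refine evAt_ext fun W d b => ?_
  rw [evAt_zero]
  refine eq_of_cover (gm X) (fun U : W.left.affineOpens => restr W U.1) (fun U => incl W U.1)
    (open_cover_mem W) _ _ fun U => ?_
  refine ((evAt_comp ψ d (incl W U.1) b).symm.trans ?_).trans (map_zero _).symm
  haveI : IsAffine (restr W U.1).left := U.2
  obtain ⟨n, hn⟩ := exists_bound (pullback.fst (restr W U.1).hom f)
  refine evAt_eq_zero_of_bound f F ψ hψ n (restr W U.1) (incl W U.1 ≫ d) U.2 ⊤ isClosed_univ hn _ fun Q g hg => ?_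
  haveI : IsEmpty Q.left := ⟨fun x => hg x trivial⟩
  exact eq_of_isEmpty F _ _

variable [IsLocallyNoetherian X] {N : CGrpSh3.pushGm Scheme.fppfPrecoverage f ⟶ CGrpSh2.Gm Scheme.fppfPrecoverage X}
  (hN : CGrpSh3.IsNormMap Scheme.fppfPrecoverage f N)

include hN in
theorem toX'_evAt_th (χ : DualX' F (Pb f T)) (Z : Over X') (v : Z ⟶ Pb f T) (a : F.obj.obj (op Z)) :
    toX' f Z (evAt (th f F N T χ) (dn f v) (extS (sec f Z) F a)) = evAt χ v a := by
  refine gmVal_injective (Units.ext ((gmVal_toX' f Z _).trans ?_))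
  rw [evAt_th, evAt_extS, gmVal_norm_extS f hN]
  exact congrArg (fun y => (gmVal y).1) (evAt_congr χ (sec_dn f v) a)

include hN in
theorem th_bijective : Function.Bijective (th f F N T) := by
  refine ⟨(injective_iff_map_eq_zero _).2 fun χ hχ => evAt_ext fun Z v a => ?_, fun φ => ?_⟩
  · rw [← toX'_evAt_th f F hN χ Z v a, hχ, evAt_zero, evAt_zero, map_zero]
  · let Φ : ∀ Z : Over X', (Z ⟶ Pb f T) → (F.obj.obj (op Z) →+ (gm X').obj.obj (op Z)) := fun Z v =>
      (toX' f Z).comp ((evAt φ (dn f v)).comp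
        (AddMonoidHom.mk' (fun a => extS (sec f Z) F a) (extS_add (sec f Z) F)))
    suffices h : ∃ χ : DualX' F (Pb f T), ∀ Z v a, evAt χ v a = Φ Z v a by
      obtain ⟨χ, hχ⟩ := h
      refine ⟨χ, (sub_eq_zero.1 (eq_zero_of_kills f F (φ - th f F N T χ) fun Z v a => ?_)).symm⟩
      rw [evAt_sub, sub_eq_zero]
      refine (gmVal_injective (Units.ext ?_)).symm
      have h := (toX'_evAt_th f F hN χ Z v a).trans (hχ Z v a)
      exact ((gmVal_toX' f Z _).symm.trans (congrArg (fun y => (gmVal y).1) h)).trans (gmVal_toX' f Z _)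
    refine ⟨ofNatural Φ fun {W W'} v g a => ?_, fun _ _ _ => rfl⟩
    show toX' f W' (evAt φ (dn f (g ≫ v)) (extS (sec f W') F (rA F g a))) =
      rA (gm X') g (toX' f W (evAt φ (dn f v) (extS (sec f W) F a)))
    rw [← toX'_map, ← rA_extS_sec, ← mpMap_dn]
    exact congrArg (toX' f W') (evAt_comp φ (dn f v) (mpMap f g) _)

include hN in
theorem isIso_dualNormMap : IsIso (CGrpSh3.dualNormMap Scheme.fppfPrecoverage f N F) := by
  haveI : ∀ T : (Over X)ᵒᵖ, IsIso ((CGrpSh3.dualNormMap Scheme.fppfPrecoverage f N F).hom.app T) := fun T =>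
    (ConcreteCategory.isIso_iff_bijective _).2 (th_bijective f F hN (T := T.unop))
  haveI : IsIso ((sheafToPresheaf _ _).map (CGrpSh3.dualNormMap Scheme.fppfPrecoverage f N F)) :=
    @NatIso.isIso_of_isIso_app _ _ _ _ _ _ _ this
  exact isIso_of_reflects_iso _ (sheafToPresheaf _ _)

end Groth.Agent.DualNorm

end
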