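import Groth.Agent.DualNorm.Clopen
import Groth.Agent.EtFound.SectionUnr
import Groth.Agent.NormMap.Main
import Groth.Agent.GrpSchLib.GaPts
import Mathlib.AlgebraicGeometry.PullbackCarrier
import Mathlib.LinearAlgebra.Transvection.Basic

/-!
# The norm of a function extended by one off a section
-/

set_option autoImplicit false

universe u

open CategoryTheory CategoryTheory.Limits AlgebraicGeometry Opposite

noncomputable section

namespace Groth.Agent.DualNorm

open Groth.Agent.Adeq2Lib.AffVan Groth.Agent.FppfPic Groth.Agent.HomShH1 Groth.Agent.NormMap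

variable {X X' : Scheme.{u}} (f : X' ⟶ X)

/-- An object over `X'` as an object over `X`. -/
abbrev Mp (Z : Over X') : Over X := Over.mk (Z.hom ≫ f)

/-- A morphism over `X'` as a morphism over `X`. -/
abbrev mpMap {Z Z' : Over X'} (g : Z' ⟶ Z) : Mp f Z' ⟶ Mp f Z :=
  Over.homMk g.left (by
    show g.left ≫ Z.hom ≫ f = Z'.hom ≫ f
    rw [← Category.assoc, Over.w g])

/-- Base change to `X'`. -/
abbrev Pb (T : Over X) : Over X' := (Over.pullback f).obj T

/-- Base change of a morphism. -/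
abbrev pb {T T' : Over X} (g : T' ⟶ T) : Pb f T' ⟶ Pb f T := (Over.pullback f).map g

/-- The tautological section. -/
abbrev sec (Z : Over X') : Z ⟶ Pb f (Mp f Z) :=
  Over.homMk (pullback.lift (𝟙 _) Z.hom (Category.id_comp _)) (by
    exact pullback.lift_snd _ _ _)

theorem sec_fst (Z : Over X') : (sec f Z).left ≫ pullback.fst (Mp f Z).hom f = 𝟙 _ :=
  pullback.lift_fst _ _ _

theorem pb_fst {T T' : Over X} (g : T' ⟶ T) :
    (pb f g).left ≫ pullback.fst T.hom f = pullback.fst T'.hom f ≫ g.left :=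
  pm_fst f g

theorem sec_pb {Z Z' : Over X'} (g : Z' ⟶ Z) : sec f Z' ≫ pb f (mpMap f g) = g ≫ sec f Z := by
  refine Over.OverMorphism.ext (pullback.hom_ext ?_ ?_)
  · rw [Over.comp_left, Over.comp_left, Category.assoc, Category.assoc, pb_fst, sec_fst,
      ← Category.assoc, sec_fst, Category.id_comp, Category.comp_id]
    rfl
  · exact (Over.w (sec f Z' ≫ pb f (mpMap f g))).trans (Over.w (g ≫ sec f Z)).symm

/-- The transpose of a morphism to a base change. -/
abbrev dn {Z : Over X'} {T : Over X} (v : Z ⟶ Pb f T) : Mp f Z ⟶ T :=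
  Over.homMk (v.left ≫ pullback.fst T.hom f) (by
    show (v.left ≫ pullback.fst T.hom f) ≫ T.hom = Z.hom ≫ f
    rw [Category.assoc, pullback.condition, ← Category.assoc]
    exact congrArg (· ≫ f) (Over.w v))

theorem sec_dn {Z : Over X'} {T : Over X} (v : Z ⟶ Pb f T) : sec f Z ≫ pb f (dn f v) = v := by
  refine Over.OverMorphism.ext (pullback.hom_ext ?_ ?_)
  · rw [Over.comp_left, Category.assoc, pb_fst, ← Category.assoc, sec_fst, Category.id_comp]
    rfl
  · exact (Over.w (sec f Z ≫ pb f (dn f v))).trans (Over.w v).symm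

theorem mpMap_dn {Z Z' : Over X'} {T : Over X} (g : Z' ⟶ Z) (v : Z ⟶ Pb f T) :
    mpMap f g ≫ dn f v = dn f (g ≫ v) :=
  Over.OverMorphism.ext (Category.assoc _ _ _).symm

variable [IsFinite f] [Etale f]

instance isClopenImm_sec (Z : Over X') : IsClopenImm (sec f Z) where
  isOpen := EtFound.isOpenImmersion_section (pullback.fst (Mp f Z).hom f) (sec f Z).left (sec_fst f Z)
  isClosed := EtFound.isClosed_range_section (pullback.fst (Mp f Z).hom f) (sec f Z).left (sec_fst f Z)

theorem mem_range_sec {Z Z' : Over X'} (g : Z' ⟶ Z) (p : (Pb f (Mp f Z')).left)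
    (hp : (pb f (mpMap f g)).left p ∈ Set.range (sec f Z).left) : p ∈ Set.range (sec f Z').left := by
  have hsq : (sec f Z').left ≫ (pb f (mpMap f g)).left = g.left ≫ (sec f Z).left :=
    congrArg CommaMorphism.left (sec_pb f g)
  have h : IsPullback (sec f Z').left g.left (pb f (mpMap f g)).left (sec f Z).left := by
    refine IsPullback.of_right ?_ hsq (isPullback_pm f (mpMap f g))
    rw [sec_fst, sec_fst]
    exact IsPullback.of_horiz_isIso ⟨(Category.id_comp _).trans (Category.comp_id _).symm⟩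
  obtain ⟨z, hz⟩ := hp
  obtain ⟨q, hq, -⟩ := Scheme.Pullback.exists_preimage_pullback (f := (pb f (mpMap f g)).left)
    (g := (sec f Z).left) p z hz.symm
  refine ⟨h.isoPullback.inv q, ?_⟩
  rw [← Scheme.Hom.comp_apply, h.isoPullback_inv_fst]
  exact hq

theorem rA_extS_sec (F : AbT X') {Z Z' : Over X'} (g : Z' ⟶ Z) (a : F.obj.obj (op Z)) :
    rA F (pb f (mpMap f g)) (extS (sec f Z) F a) = extS (sec f Z') F (rA F g a) :=
  rA_extS_square (sec f Z) F (sec f Z') g (pb f (mpMap f g)) (sec_pb f g) (mem_range_sec f g) a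

theorem eq_of_appTop {S : Scheme.{u}} {Z P : Over S} (j : Z ⟶ P) [IsClopenImm j] {a b : Γ(P.left, ⊤)}
    (h₁ : j.left.appTop a = j.left.appTop b) (h₂ : (cm j).left.appTop a = (cm j).left.appTop b) : a = b := by
  have key : (ULift.up (Additive.ofMul (GrpSchLib.GaPts.ptOfFn a : P ⟶ Red.Ga S)) :
        (CGrpSh2.Ga Scheme.fppfPrecoverage S).obj.obj (op P)) =
      ULift.up (Additive.ofMul (GrpSchLib.GaPts.ptOfFn b : P ⟶ Red.Ga S)) := by
    refine clopen_ext j (CGrpSh2.Ga Scheme.fppfPrecoverage S) ?_ ?_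
    · refine ULift.ext _ _ (congrArg Additive.ofMul (GrpSchLib.GaPts.gaFn_injective ?_))
      show Red.gaFn (j ≫ GrpSchLib.GaPts.ptOfFn a) =
        Red.gaFn (j ≫ GrpSchLib.GaPts.ptOfFn b)
      rw [GrpSchLib.GaPts.gaFn_comp, GrpSchLib.GaPts.gaFn_comp, GrpSchLib.GaPts.gaFn_ptOfFn,
        GrpSchLib.GaPts.gaFn_ptOfFn, h₁]
    · refine ULift.ext _ _ (congrArg Additive.ofMul (GrpSchLib.GaPts.gaFn_injective ?_))
      show Red.gaFn (cm j ≫ GrpSchLib.GaPts.ptOfFn a) =
        Red.gaFn (cm j ≫ GrpSchLib.GaPts.ptOfFn b)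
      rw [GrpSchLib.GaPts.gaFn_comp, GrpSchLib.GaPts.gaFn_comp, GrpSchLib.GaPts.gaFn_ptOfFn,
        GrpSchLib.GaPts.gaFn_ptOfFn, h₂]
  have h := congrArg (fun x => Red.gaFn (Additive.toMul (ULift.down x))) key
  simpa [GrpSchLib.GaPts.gaFn_ptOfFn] using h

theorem gmVal_cm {S : Scheme.{u}} {Z P : Over S} (j : Z ⟶ P) [IsClopenImm j]
    (z : (gm S).obj.obj (op P)) (hz : rA (gm S) (cm j) z = 0) : (cm j).left.appTop (gmVal z).1 = 1 := by
  refine (gmVal_map (cm j) z).symm.trans ((congrArg (fun y => (gmVal y).1) hz).trans ?_)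
  have h := gmVal_add (0 : (gm S).obj.obj (op (Cm j))) 0
  rw [add_zero, eq_comm, mul_eq_left] at h
  exact congrArg Units.val h

theorem norm_eq_of_section {R M : Type u} [CommRing R] [CommRing M] [Algebra R M] [Module.Free R M]
    [Module.Finite R M] (φ : M →+* R) (hφ : ∀ r, φ (algebraMap R M r) = r) (v : M)
    (hv : ∀ x, (v - 1) * x = φ x • (v - 1)) : Algebra.norm R v = φ v := by
  let φl : Module.Dual R M :=
    { toFun := φ
      map_add' := map_add φ
      map_smul' := fun r x => by rw [Algebra.smul_def, map_mul, hφ]; rfl }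
  have h : LinearMap.mulLeft R v = LinearMap.transvection φl (v - 1) := LinearMap.ext fun x => by
    rw [LinearMap.transvection.apply, LinearMap.mulLeft_apply]
    show v * x = x + φ x • (v - 1)
    rw [← hv]
    ring
  rw [Algebra.norm_apply, show Algebra.lmul R M v = LinearMap.mulLeft R v from rfl, h,
    LinearMap.transvection.det]
  show 1 + φ (v - 1) = φ v
  rw [map_sub, map_one]
  abel

variable [IsLocallyNoetherian X] {N : CGrpSh3.pushGm Scheme.fppfPrecoverage f ⟶ CGrpSh2.Gm Scheme.fppfPrecoverage X}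
  (hN : CGrpSh3.IsNormMap Scheme.fppfPrecoverage f N)

/-- The norm on sections. -/
abbrev nA (N : CGrpSh3.pushGm Scheme.fppfPrecoverage f ⟶ CGrpSh2.Gm Scheme.fppfPrecoverage X) (T : Over X)
    (z : (gm X').obj.obj (op (Pb f T))) : (gm X).obj.obj (op T) :=
  (N.hom.app (op T)).hom z

theorem nA_map {T T' : Over X} (g : T' ⟶ T) (z : (gm X').obj.obj (op (Pb f T))) :
    nA f N T' (rA (gm X') (pb f g) z) = rA (gm X) g (nA f N T z) :=
  ConcreteCategory.congr_hom (N.hom.naturality g.op) z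

omit [IsLocallyNoetherian X] [Etale f] in
include hN in
theorem gmVal_nA (T : Over X) (hT : IsFree f T) (z : (gm X').obj.obj (op (Pb f T))) :
    (gmVal (nA f N T z)).1 = nrm f T (gmVal z).1 := by
  obtain ⟨ha, hfin, hfree⟩ := hT
  exact @hN T ha (alg f T) hfin hfree (fun a => rfl) (Additive.toMul (ULift.down z))

omit [IsLocallyNoetherian X] [Etale f] in
theorem nrm_eq_of_section (T : Over X) (hT : IsFree f T) (φ : Γ((Pb f T).left, ⊤) →+* Γ(T.left, ⊤))
    (hφ : ∀ r, φ ((pullback.fst T.hom f).appTop r) = r) (v : Γ((Pb f T).left, ⊤))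
    (hv : ∀ x : Γ((Pb f T).left, ⊤), (v - 1) * x =
      (show Γ((Pb f T).left, ⊤) from (pullback.fst T.hom f).appTop (φ x)) * (v - 1)) :
    nrm f T v = φ v := by
  obtain ⟨-, hfin, hfree⟩ := hT
  letI := alg f T
  haveI := hfin
  haveI := hfree
  exact norm_eq_of_section φ hφ v fun x => (hv x).trans (Algebra.smul_def _ _).symm

omit [IsLocallyNoetherian X] in
theorem eq_mul_of_section (Z : Over X') (v : Γ((Pb f (Mp f Z)).left, ⊤))
    (h2 : (cm (sec f Z)).left.appTop v = 1) (x : Γ((Pb f (Mp f Z)).left, ⊤)) :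
    (v - 1) * x = (show Γ((Pb f (Mp f Z)).left, ⊤) from
      (pullback.fst (Mp f Z).hom f).appTop ((sec f Z).left.appTop x)) * (v - 1) := by
  refine eq_of_appTop (sec f Z) ?_ ?_
  · rw [map_mul, map_mul, ← GmPts.appTop_comp_apply (sec f Z).left (pullback.fst (Mp f Z).hom f), sec_fst]
    exact mul_comm _ _
  · rw [map_mul, map_mul, map_sub, h2, map_one, sub_self, zero_mul, mul_zero]

omit [IsLocallyNoetherian X] in
theorem section_appTop (Z : Over X') (r : Γ((Mp f Z).left, ⊤)) :
    (sec f Z).left.appTop ((pullback.fst (Mp f Z).hom f).appTop r) = r := by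
  refine (GmPts.appTop_comp_apply (sec f Z).left (pullback.fst (Mp f Z).hom f) r).symm.trans ?_
  rw [sec_fst]
  rfl

include hN in
theorem gmVal_norm_of_section (Z : Over X') (hZ : IsFree f (Mp f Z))
    (z : (gm X').obj.obj (op (Pb f (Mp f Z)))) (hz : rA (gm X') (cm (sec f Z)) z = 0) :
    (gmVal (nA f N (Mp f Z) z)).1 = (sec f Z).left.appTop (gmVal z).1 := by
  rw [gmVal_nA f hN (Mp f Z) hZ z]
  have h2 : (cm (sec f Z)).left.appTop (gmVal z).1 = 1 := gmVal_cm (sec f Z) z hz
  exact nrm_eq_of_section f (Mp f Z) hZ (sec f Z).left.appTop.hom (section_appTop f Z) _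
    (eq_mul_of_section f Z _ h2)

include hN in
theorem gmVal_norm_extS (Z : Over X') (w : (gm X').obj.obj (op Z)) :
    ((gmVal (nA f N (Mp f Z) (extS (sec f Z) (gm X') w))).1 : Γ(Z.left, ⊤)) = (gmVal w).1 := by
  refine ext_of_free f (Mp f Z) _ _ fun U => ?_
  let ZU : Over X' := Over.mk (U.1.ι ≫ Z.hom)
  let g : ZU ⟶ Z := Over.homMk U.1.ι rfl
  have hfree : IsFree f (Mp f ZU) := by
    have e : restr (Mp f Z) U.1 = Mp f ZU := congrArg Over.mk (Category.assoc _ _ _).symm
    exact e ▸ U.2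
  have h := gmVal_norm_of_section f hN ZU hfree _ (rA_cm_extS (sec f ZU) (gm X') (rA (gm X') g w))
  refine Eq.trans ?_ ((h.trans ((gmVal_map (sec f ZU) _).symm.trans
    (congrArg (fun y => (gmVal y).1) (rA_extS (sec f ZU) (gm X') (rA (gm X') g w))))).trans (gmVal_map g w))
  rw [← rA_extS_sec]
  exact ((congrArg (fun y => (gmVal y).1) (nA_map f (mpMap f g) _)).trans (gmVal_map (mpMap f g) _)).symm

end Groth.Agent.DualNorm

end
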